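import Cfsg.Agent.H793.EP.Tools
import Cfsg.Agent.H918.TransvTensor
import Cfsg.Agent.H905.SLProper
import Cfsg.Agent.H908.SLTrans

/-!
# S3499, linear groups, class C4 (helper793): `m.hat A` is in no stabiliser of a tensor decomposition
-/

set_option autoImplicit false

namespace Cfsg.Agent.H793.EP

open Subgroup Cfsg Cfsg.Geo Cfsg.Agent.H284 Cfsg.Agent.H419.EP
open scoped Matrix MatrixGroups Kronecker

section kron

variable {ι : Type} [Fintype ι] [DecidableEq ι] {F : Type*} [Field F]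

/-- the Kronecker product as a homomorphism -/
noncomputable def kron (n₁ n₂ : ℕ) (F : Type*) [Field F] :
    GL (Fin n₁) F × GL (Fin n₂) F →* GL (Fin n₁ × Fin n₂) F :=
  { toFun := fun x => ⟨(x.1 : Matrix (Fin n₁) (Fin n₁) F) ⊗ₖ (x.2 : Matrix (Fin n₂) (Fin n₂) F),
      ((x.1⁻¹ : GL (Fin n₁) F) : Matrix (Fin n₁) (Fin n₁) F) ⊗ₖ ((x.2⁻¹ : GL (Fin n₂) F) : Matrix (Fin n₂) (Fin n₂) F),
      by rw [← Matrix.mul_kronecker_mul, ← Units.val_mul, ← Units.val_mul, mul_inv_cancel, mul_inv_cancel,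
          Units.val_one, Units.val_one, Matrix.one_kronecker_one],
      by rw [← Matrix.mul_kronecker_mul, ← Units.val_mul, ← Units.val_mul, inv_mul_cancel, inv_mul_cancel,
          Units.val_one, Units.val_one, Matrix.one_kronecker_one]⟩
    map_one' := Units.ext (by simp)
    map_mul' := fun x y => Units.ext (by
      change ((x.1 * y.1 : GL (Fin n₁) F) : Matrix (Fin n₁) (Fin n₁) F) ⊗ₖ ((x.2 * y.2 : GL (Fin n₂) F) :
        Matrix (Fin n₂) (Fin n₂) F) = ((x.1 : Matrix (Fin n₁) (Fin n₁) F) ⊗ₖ (x.2 : Matrix (Fin n₂) (Fin n₂) F)) *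
          ((y.1 : Matrix (Fin n₁) (Fin n₁) F) ⊗ₖ (y.2 : Matrix (Fin n₂) (Fin n₂) F))
      rw [Units.val_mul, Units.val_mul, Matrix.mul_kronecker_mul]) }

theorem kron_coe {n₁ n₂ : ℕ} (a : GL (Fin n₁) F) (b : GL (Fin n₂) F) :
    (kron n₁ n₂ F (a, b) : Matrix (Fin n₁ × Fin n₂) (Fin n₁ × Fin n₂) F) =
      (a : Matrix (Fin n₁) (Fin n₁) F) ⊗ₖ (b : Matrix (Fin n₂) (Fin n₂) F) := rfl

/-- the homomorphism to `GL ι F`. -/
noncomputable def kp {n₁ n₂ : ℕ} (e : ι ≃ Fin n₁ × Fin n₂) (P : GL ι F) :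
    GL (Fin n₁) F × GL (Fin n₂) F →* GL ι F :=
  (MulAut.conj P).toMonoidHom.comp ((glReindex e.symm).toMonoidHom.comp (kron n₁ n₂ F))

theorem mem_tensor {n₁ n₂ : ℕ} (e : ι ≃ Fin n₁ × Fin n₂) (P : GL ι F) {g : GL ι F} :
    g ∈ tensorProductSubgroup n₁ n₂ e P ↔ ∃ a b, kp e P (a, b) = g := by
  constructor
  · rintro ⟨_, ⟨k, ⟨a, b, hk⟩, rfl⟩, rfl⟩
    refine ⟨a, b, ?_⟩
    have h : kron n₁ n₂ F (a, b) = k := Units.ext hk.symm
    change (MulAut.conj P) (glReindex e.symm (kron n₁ n₂ F (a, b))) = _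
    rw [h]
    rfl
  · rintro ⟨a, b, rfl⟩
    exact ⟨_, ⟨kron n₁ n₂ F (a, b), ⟨a, b, rfl⟩, rfl⟩, rfl⟩

theorem kp_scalar_iff {n₁ n₂ : ℕ} (e : ι ≃ Fin n₁ × Fin n₂) (P : GL ι F) (a : GL (Fin n₁) F) (b : GL (Fin n₂) F) :
    kp e P (a, b) ∈ scalars ι F ↔ kron n₁ n₂ F (a, b) ∈ scalars (Fin n₁ × Fin n₂) F := by
  have h1 : kp e P (a, b) ∈ scalars ι F ↔ glReindex e.symm (kron n₁ n₂ F (a, b)) ∈ scalars ι F := by
    change P * glReindex e.symm (kron n₁ n₂ F (a, b)) * P⁻¹ ∈ scalars ι F ↔ _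
    constructor
    · intro h
      have := (scalars_normal (ι := ι) (F := F)).conj_mem _ h P⁻¹
      have e1 : P⁻¹ * (P * glReindex e.symm (kron n₁ n₂ F (a, b)) * P⁻¹) * P⁻¹⁻¹ =
          glReindex e.symm (kron n₁ n₂ F (a, b)) := by group
      rwa [e1] at this
    · intro h
      exact (scalars_normal (ι := ι) (F := F)).conj_mem _ h P
  rw [h1, mem_scalars_iff, mem_scalars_iff]
  refine exists_congr fun c => ?_
  have h2 : ((glReindex e.symm (kron n₁ n₂ F (a, b)) : GL ι F) : Matrix ι ι F) =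
      Matrix.reindex e.symm e.symm (kron n₁ n₂ F (a, b) : Matrix (Fin n₁ × Fin n₂) (Fin n₁ × Fin n₂) F) := rfl
  rw [h2]
  constructor
  · intro h
    have h3 := congrArg (Matrix.reindex e e) h
    ext i j
    have h4 := congrFun (congrFun h3 i) j
    simpa [Matrix.one_apply] using h4
  · intro h
    rw [h]
    ext i j
    simp [Matrix.one_apply]

/-- the factors of a scalar Kronecker product are scalar -/
theorem scalar_of_kron {n₁ n₂ : ℕ} (h₁ : 0 < n₁) (h₂ : 0 < n₂) {a : GL (Fin n₁) F} {b : GL (Fin n₂) F}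
    (h : kron n₁ n₂ F (a, b) ∈ scalars (Fin n₁ × Fin n₂) F) : a ∈ scalars (Fin n₁) F ∧ b ∈ scalars (Fin n₂) F := by
  obtain ⟨c, hc⟩ := (mem_scalars_iff _).1 h
  rw [kron_coe] at hc
  have he : ∀ i k j l, (a : Matrix (Fin n₁) (Fin n₁) F) i k * (b : Matrix (Fin n₂) (Fin n₂) F) j l =
      if i = k ∧ j = l then (c : F) else 0 := by
    intro i k j l
    have := congrFun (congrFun hc (i, j)) (k, l)
    rw [Matrix.kroneckerMap_apply, Matrix.smul_apply, Matrix.one_apply] at this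
    rw [this]
    simp only [Prod.mk.injEq, smul_eq_mul, mul_ite, mul_one, mul_zero]
  have hc0 : (c : F) ≠ 0 := c.ne_zero
  let i0 : Fin n₁ := ⟨0, h₁⟩
  let j0 : Fin n₂ := ⟨0, h₂⟩
  have hd : ∀ i j, (a : Matrix (Fin n₁) (Fin n₁) F) i i * (b : Matrix (Fin n₂) (Fin n₂) F) j j = c := by
    intro i j
    rw [he, if_pos ⟨rfl, rfl⟩]
  have ha0 : ∀ i, (a : Matrix (Fin n₁) (Fin n₁) F) i i ≠ 0 := by
    intro i hi
    have := hd i j0
    rw [hi, zero_mul] at this
    exact hc0 this.symm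
  have hb0 : ∀ j, (b : Matrix (Fin n₂) (Fin n₂) F) j j ≠ 0 := by
    intro j hj
    have := hd i0 j
    rw [hj, mul_zero] at this
    exact hc0 this.symm
  constructor
  · rw [mem_scalars_iff]
    refine ⟨Units.mk0 _ (ha0 i0), ?_⟩
    ext i k
    rw [Matrix.smul_apply, Matrix.one_apply, Units.val_mk0, smul_eq_mul]
    by_cases hik : i = k
    · subst hik
      rw [if_pos rfl, mul_one]
      have h1 := hd i j0
      rw [← hd i0 j0] at h1
      exact mul_right_cancel₀ (hb0 j0) h1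
    · rw [if_neg hik, mul_zero]
      have h1 := he i k j0 j0
      rw [if_neg (fun hh => hik hh.1)] at h1
      exact (mul_eq_zero.1 h1).resolve_right (hb0 j0)
  · rw [mem_scalars_iff]
    refine ⟨Units.mk0 _ (hb0 j0), ?_⟩
    ext j l
    rw [Matrix.smul_apply, Matrix.one_apply, Units.val_mk0, smul_eq_mul]
    by_cases hjl : j = l
    · subst hjl
      rw [if_pos rfl, mul_one]
      have h1 := hd i0 j
      rw [← hd i0 j0] at h1
      exact mul_left_cancel₀ (ha0 i0) h1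
    · rw [if_neg hjl, mul_zero]
      have h1 := he i0 i0 j l
      rw [if_neg (fun hh => hjl hh.2)] at h1
      exact (mul_eq_zero.1 h1).resolve_left (ha0 i0)

theorem kp_det {n₁ n₂ : ℕ} (e : ι ≃ Fin n₁ × Fin n₂) (P : GL ι F) (a : GL (Fin n₁) F) (b : GL (Fin n₂) F) :
    ((kp e P (a, b) : GL ι F) : Matrix ι ι F).det =
      (a : Matrix (Fin n₁) (Fin n₁) F).det ^ n₂ * (b : Matrix (Fin n₂) (Fin n₂) F).det ^ n₁ := by
  have h1 : ((kp e P (a, b) : GL ι F) : Matrix ι ι F) = (P : Matrix ι ι F) *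
      Matrix.reindex e.symm e.symm (kron n₁ n₂ F (a, b) : Matrix (Fin n₁ × Fin n₂) (Fin n₁ × Fin n₂) F) *
        ((P⁻¹ : GL ι F) : Matrix ι ι F) := rfl
  have h2 : (P : Matrix ι ι F).det * ((P⁻¹ : GL ι F) : Matrix ι ι F).det = 1 := by
    rw [← Matrix.det_mul, ← Units.val_mul, mul_inv_cancel, Units.val_one, Matrix.det_one]
  rw [h1, Matrix.det_mul, Matrix.det_mul, mul_right_comm, h2, one_mul, Matrix.det_reindex_self, kron_coe,
    Matrix.det_kronecker, Fintype.card_fin, Fintype.card_fin]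

theorem kp_mem_sl {n₁ n₂ : ℕ} (e : ι ≃ Fin n₁ × Fin n₂) (P : GL ι F) {a : GL (Fin n₁) F} {b : GL (Fin n₂) F}
    (ha : a ∈ specialLinear (Fin n₁) F) (hb : b ∈ specialLinear (Fin n₂) F) :
    kp e P (a, b) ∈ specialLinear ι F := by
  rw [H908.mem_sl_iff] at *
  rw [kp_det, ha, hb, one_pow, one_pow, one_mul]

/-- a scalar second factor can be moved to the first -/
theorem kp_of_scalar {n₁ n₂ : ℕ} (e : ι ≃ Fin n₁ × Fin n₂) (P : GL ι F) (a : GL (Fin n₁) F) {b : GL (Fin n₂) F}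
    (hb : b ∈ scalars (Fin n₂) F) : ∃ a', kp e P (a, b) = kp e P (a', 1) := by
  obtain ⟨c, rfl⟩ := hb
  refine ⟨a * Units.map (Matrix.scalar (Fin n₁) : F →+* _).toMonoidHom c, ?_⟩
  have : kron n₁ n₂ F (a, Units.map (Matrix.scalar (Fin n₂) : F →+* _).toMonoidHom c) =
      kron n₁ n₂ F (a * Units.map (Matrix.scalar (Fin n₁) : F →+* _).toMonoidHom c, 1) := by
    apply Units.ext
    rw [kron_coe, kron_coe]
    ext ⟨i, j⟩ ⟨k, l⟩
    rw [Matrix.kroneckerMap_apply, Matrix.kroneckerMap_apply, Units.val_mul]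
    have h1 : ((Units.map (Matrix.scalar (Fin n₂) : F →+* _).toMonoidHom c : GL (Fin n₂) F) :
        Matrix (Fin n₂) (Fin n₂) F) = (c : F) • 1 := by
      simp [Matrix.smul_one_eq_diagonal]
    have h2 : ((Units.map (Matrix.scalar (Fin n₁) : F →+* _).toMonoidHom c : GL (Fin n₁) F) :
        Matrix (Fin n₁) (Fin n₁) F) = (c : F) • 1 := by
      simp [Matrix.smul_one_eq_diagonal]
    rw [h1, h2, Matrix.mul_smul, Matrix.mul_one, Units.val_one]
    simp only [Matrix.smul_apply, smul_eq_mul]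
    ring
  change (MulAut.conj P) (glReindex e.symm _) = (MulAut.conj P) (glReindex e.symm _)
  rw [this]

theorem kp_one_inj {n₁ n₂ : ℕ} (h₁ : 0 < n₁) (e : ι ≃ Fin n₁ × Fin n₂) (P : GL ι F) {b b' : GL (Fin n₂) F}
    (h : kp e P (1, b) = kp e P (1, b')) : b = b' := by
  have h1 : kron n₁ n₂ F (1, b) = kron n₁ n₂ F (1, b') := by
    apply (glReindex (F := F) e.symm).injective
    apply (MulAut.conj P).injective
    exact h
  apply Units.ext
  ext j l
  have h2 := congrArg (fun g : GL (Fin n₁ × Fin n₂) F => (g : Matrix (Fin n₁ × Fin n₂) (Fin n₁ × Fin n₂) F)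
    ((⟨0, h₁⟩ : Fin n₁), j) ((⟨0, h₁⟩ : Fin n₁), l)) h1
  simpa [kron_coe, Matrix.kroneckerMap_apply] using h2

/-- `|GL_{n₁}(q)| < |SL_{n₂}(q)|` for `n₁ < n₂` -/
theorem card_GL_lt_SL [Finite F] {n₁ n₂ : ℕ} (h₁ : 0 < n₁) (h12 : n₁ < n₂) :
    Nat.card (GL (Fin n₁) F) < Nat.card (specialLinear (Fin n₂) F) := by
  obtain ⟨k, rfl⟩ : ∃ k, n₂ = n₁ + (k + 1) := ⟨n₂ - n₁ - 1, by omega⟩
  let E : Fin n₁ ⊕ Fin (k + 1) ≃ Fin (n₁ + (k + 1)) := finSumFinEquiv
  let D : GL (Fin n₁) F → Matrix (Fin (k + 1)) (Fin (k + 1)) F := fun a =>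
    Matrix.diagonal (Function.update (fun _ => (1 : F)) 0 ((a : Matrix (Fin n₁) (Fin n₁) F).det)⁻¹)
  have hD : ∀ a, (D a).det = ((a : Matrix (Fin n₁) (Fin n₁) F).det)⁻¹ := by
    intro a
    rw [Matrix.det_diagonal, Finset.prod_update_of_mem (Finset.mem_univ _)]
    simp
  let f : GL (Fin n₁) F × F → specialLinear (Fin (n₁ + (k + 1))) F := fun x =>
    ⟨H908.slMk (Matrix.reindex E E (Matrix.fromBlocks (x.1 : Matrix (Fin n₁) (Fin n₁) F) (Matrix.of fun _ _ => x.2) 0
      (D x.1))) (by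
        rw [Matrix.det_reindex_self, Matrix.det_fromBlocks_zero₂₁, hD]
        exact mul_inv_cancel₀ ((Matrix.isUnit_iff_isUnit_det _).1 x.1.isUnit).ne_zero), H908.slMk_mem _ _⟩
  have hf : Function.Injective f := by
    rintro ⟨a, c⟩ ⟨a', c'⟩ h
    have h1 : Matrix.reindex E E (Matrix.fromBlocks (a : Matrix (Fin n₁) (Fin n₁) F) (Matrix.of fun _ _ => c) 0
      (D a)) = Matrix.reindex E E (Matrix.fromBlocks (a' : Matrix (Fin n₁) (Fin n₁) F) (Matrix.of fun _ _ => c') 0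
      (D a')) := congrArg (fun g : specialLinear (Fin (n₁ + (k + 1))) F =>
        ((g : GL (Fin (n₁ + (k + 1))) F) : Matrix (Fin (n₁ + (k + 1))) (Fin (n₁ + (k + 1))) F)) h
    have h2 := (Matrix.reindex E E).injective h1
    rw [Matrix.fromBlocks_inj] at h2
    have h3 := congrFun (congrFun h2.2.1 ⟨0, h₁⟩) 0
    exact Prod.ext (Units.ext h2.1) h3
  have h1 := Nat.card_le_card_of_injective f hf
  rw [Nat.card_prod] at h1
  have h2 : 1 < Nat.card F := Finite.one_lt_card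
  have h3 : 0 < Nat.card (GL (Fin n₁) F) := Nat.card_pos
  nlinarith

end kron

section counting

/-- the order of the preimage under a surjection -/
theorem card_comap {S Q : Type*} [Group S] [Group Q] [Finite S] (f : S →* Q) (hf : Function.Surjective f)
    (B : Subgroup Q) : Nat.card (B.comap f) = Nat.card B * Nat.card f.ker := by
  have h1 : (B.comap f).index = B.index := Subgroup.index_comap_of_surjective B hf
  have h2 := (B.comap f).card_mul_index
  have : Finite Q := Finite.of_surjective f hf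
  have h3 := B.card_mul_index
  have h4 := f.ker.card_mul_index
  rw [Subgroup.index_ker, MonoidHom.range_eq_top.2 hf, Subgroup.card_top] at h4
  have h5 : B.index ≠ 0 := Subgroup.index_ne_zero_of_finite
  rw [h1, ← h4, ← h3] at h2
  apply Nat.eq_of_mul_eq_mul_right (Nat.pos_of_ne_zero h5)
  rw [h2]
  ring

end counting

variable {Q : Type*} [Group Q] [Finite Q] {A : Subgroup Q} {Γ : Subgroup (MulAut Q)}
  {F : Type*} [Field F] [Fintype F] {ι : Type} [Fintype ι] [DecidableEq ι]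

/-- **(SL-C4)** `m.hat A` is in no stabiliser of a tensor decomposition -/
theorem sl_c4' (h : EPT A Γ) (m : Model Q (specialLinear ι F)) {n₁ n₂ : ℕ} (e : ι ≃ Fin n₁ × Fin n₂) (P : GL ι F)
    (h₁ : 2 ≤ n₁) (h12 : n₁ < n₂) (hA : m.hat A ≤ tensorProductSubgroup n₁ n₂ e P) : False := by
  classical
  have hS : ¬ specialLinear ι F ≤ tensorProductSubgroup n₁ n₂ e P := by
    obtain ⟨i, j, hij⟩ : ∃ i j : ι, i ≠ j := by
      refine ⟨e.symm (⟨0, by omega⟩, ⟨0, by omega⟩), e.symm (⟨0, by omega⟩, ⟨1, by omega⟩), fun h0 => ?_⟩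
      have := e.symm.injective h0
      simp at this
    refine H918.not_le_tensorProductSubgroup (H905.tv_mem hij (1 : F)) ⟨Pi.single i 1, Pi.single j 1, ?_, ?_, ?_⟩ h₁
      (by omega) e P
    · simp
    · simp
    · rw [H905.tv_val, Matrix.single_eq_single_vecMulVec_single]
  have hAeq := H918.eq_inf_of_maximal (m.isMaximalIn h.max) hA hS
  have hmem : ∀ g : GL ι F, g ∈ m.hat A ↔ (∃ a b, kp e P (a, b) = g) ∧ g ∈ specialLinear ι F := by
    intro g
    rw [hAeq, mem_inf, mem_tensor]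
  -- the homomorphism of `SL_{n₂}`
  have hone : (1 : GL (Fin n₁) F) ∈ specialLinear (Fin n₁) F := one_mem _
  let ψ : specialLinear (Fin n₂) F →* specialLinear ι F :=
    { toFun := fun b => ⟨kp e P (1, b), kp_mem_sl e P hone b.2⟩
      map_one' := Subtype.ext (map_one (kp e P))
      map_mul' := fun b c => Subtype.ext (by
        change kp e P (1, (b : GL (Fin n₂) F) * c) = kp e P (1, b) * kp e P (1, c)
        rw [← map_mul, Prod.mk_mul_mk, one_mul]) }
  have hψ : ∀ b, ((ψ b : specialLinear ι F) : GL ι F) = kp e P (1, b) := fun b => rfl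
  let φ : specialLinear (Fin n₂) F →* Q := m.π.comp ψ
  have hφ : ∀ b, φ b = m.π (ψ b) := fun b => rfl
  set Y : Subgroup Q := φ.range with hY
  have hYA : Y ≤ A := by
    rintro _ ⟨b, rfl⟩
    rw [hφ, ← m.mem_hat_iff, hmem]
    exact ⟨⟨1, b, rfl⟩, (ψ b).2⟩
  have hYn : ∀ a ∈ A, ∀ y ∈ Y, a * y * a⁻¹ ∈ Y := by
    rintro a ha _ ⟨b, rfl⟩
    obtain ⟨s, rfl⟩ := m.surj a
    rw [← m.mem_hat_iff, hmem] at ha
    obtain ⟨⟨c, d, hcd⟩, -⟩ := ha
    have hN : (specialLinear (Fin n₂) F).Normal := MonoidHom.normal_ker _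
    refine ⟨⟨d * b * d⁻¹, hN.conj_mem _ b.2 d⟩, ?_⟩
    rw [hφ, hφ, ← map_mul, ← map_inv, ← map_mul]
    congr 1
    apply Subtype.ext
    change kp e P (1, d * b * d⁻¹) = (s : GL ι F) * kp e P (1, b) * (s : GL ι F)⁻¹
    rw [← hcd, ← map_mul, ← map_inv, ← map_mul, Prod.inv_mk, Prod.mk_mul_mk, Prod.mk_mul_mk, mul_one, mul_inv_cancel]
  have hker : ∀ b, φ b = 1 ↔ (b : GL (Fin n₂) F) ∈ scalars (Fin n₂) F := by
    intro b
    rw [hφ, m.ker, hψ, kp_scalar_iff]
    constructor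
    · intro h1
      exact (scalar_of_kron (by omega) (by omega) h1).2
    · rintro ⟨c, hc⟩
      rw [mem_scalars_iff]
      refine ⟨c, ?_⟩
      have h1 : ((b : GL (Fin n₂) F) : Matrix (Fin n₂) (Fin n₂) F) = (c : F) • 1 := by
        rw [← hc]
        simp [Matrix.smul_one_eq_diagonal]
      rw [kron_coe, h1, Units.val_one, Matrix.kronecker_smul, Matrix.one_kronecker_one]
  -- `Y` is simple
  have hYs : IsSimpleGroup Y := by
    have h0 : IsSimpleGroup (Matrix.ProjectiveSpecialLinearGroup (Fin n₂) F) :=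
      LieClassical.SLGen.psl_isSimpleGroup (by rw [Fintype.card_fin]; omega)
    let T : Matrix.SpecialLinearGroup (Fin n₂) F →* specialLinear (Fin n₂) F :=
      (Matrix.SpecialLinearGroup.toGL (n := Fin n₂) (R := F)).codRestrict _ (fun b => by
        rw [H908.mem_sl_iff]; exact b.2)
    have hT : ∀ b, ((T b : specialLinear (Fin n₂) F) : GL (Fin n₂) F) = b.toGL := fun b => rfl
    have hrange : (φ.comp T).range = Y := by
      ext y
      constructor
      · rintro ⟨b, rfl⟩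
        exact ⟨T b, rfl⟩
      · rintro ⟨b, rfl⟩
        refine ⟨⟨_, (H908.mem_sl_iff _).1 b.2⟩, ?_⟩
        rw [MonoidHom.comp_apply]
        exact congrArg φ (Subtype.ext (Units.ext rfl))
    have hk : (φ.comp T).ker = Subgroup.center (Matrix.SpecialLinearGroup (Fin n₂) F) := by
      ext b
      rw [MonoidHom.mem_ker, MonoidHom.comp_apply, hker, hT, Matrix.SpecialLinearGroup.mem_center_iff,
        mem_scalars_iff]
      constructor
      · rintro ⟨c, hc⟩
        have h1 : (b : Matrix (Fin n₂) (Fin n₂) F) = (c : F) • 1 := hc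
        refine ⟨c, ?_, ?_⟩
        · have h2 := b.2
          rw [h1, Matrix.det_smul, Matrix.det_one, mul_one] at h2
          exact h2
        · rw [h1]
          simp [Matrix.smul_one_eq_diagonal]
      · rintro ⟨c, hc, hc'⟩
        have hc0 : c ≠ 0 := by
          rintro rfl
          rw [zero_pow (by rw [Fintype.card_fin]; omega)] at hc
          exact zero_ne_one hc
        refine ⟨Units.mk0 c hc0, ?_⟩
        change (b : Matrix (Fin n₂) (Fin n₂) F) = c • 1
        rw [← hc']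
        simp [Matrix.smul_one_eq_diagonal]
    rw [← hrange]
    have E : Matrix.ProjectiveSpecialLinearGroup (Fin n₂) F ≃* (φ.comp T).range :=
      (QuotientGroup.quotientMulEquivOfEq hk.symm).trans (QuotientGroup.quotientKerEquivRange (φ.comp T))
    exact E.symm.isSimpleGroup
  -- the centralizer of `Y`
  have hcent : ∀ s : specialLinear ι F, m.π s ∈ A ⊓ centralizer (Y : Set Q) → ∃ a, kp e P (a, 1) = s := by
    rintro s ⟨hs1, hs2⟩
    have hs1' : (s : GL ι F) ∈ m.hat A := (m.mem_hat_iff s).2 hs1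
    obtain ⟨⟨a, b, hab⟩, -⟩ := (hmem _).1 hs1'
    have hb : b ∈ scalars (Fin n₂) F := by
      have : Nonempty (Fin n₂) := ⟨⟨0, by omega⟩⟩
      apply H918.mem_scalars_of_commute H905.sl_actsAbsolutelyIrreducibly
      have hperf := H908.perfect_specialLinear (ι := Fin n₂) (F := F) (by rw [Fintype.card_fin]; omega)
      intro g hg
      rw [← hperf] at hg
      refine H918.commute_commutator_of_scalar (fun y hy => ?_) g hg
      have h1 := mem_centralizer_iff.1 hs2 (φ ⟨y, hy⟩) ⟨⟨y, hy⟩, rfl⟩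
      have h2 : m.π (s * ψ ⟨y, hy⟩ * s⁻¹ * (ψ ⟨y, hy⟩)⁻¹) = 1 := by
        rw [map_mul, map_mul, map_mul, map_inv, map_inv, ← hφ, ← h1]
        group
      rw [m.ker] at h2
      have h3 : ((s * ψ ⟨y, hy⟩ * s⁻¹ * (ψ ⟨y, hy⟩)⁻¹ : specialLinear ι F) : GL ι F) =
          kp e P (1, b * y * b⁻¹ * y⁻¹) := by
        change (s : GL ι F) * kp e P (1, y) * (s : GL ι F)⁻¹ * (kp e P (1, y))⁻¹ = _
        rw [← hab, ← map_mul, ← map_inv, ← map_mul, ← map_inv, ← map_mul]
        congr 1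
        simp
      rw [h3, kp_scalar_iff] at h2
      exact (scalar_of_kron (by omega) (by omega) h2).2
    obtain ⟨a', ha'⟩ := kp_of_scalar e P a hb
    exact ⟨a', by rw [← ha', hab]⟩
  -- counting
  have hlt : Nat.card (A ⊓ centralizer (Y : Set Q) : Subgroup Q) < Nat.card Y := by
    have h2 := card_comap m.π m.surj (A ⊓ centralizer (Y : Set Q))
    have h3 := card_comap m.π m.surj Y
    have h4 : Nat.card ((A ⊓ centralizer (Y : Set Q)).comap m.π) ≤ Nat.card (GL (Fin n₁) F) := by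
      choose! g hg using hcent
      refine Nat.card_le_card_of_injective (fun s : (A ⊓ centralizer (Y : Set Q)).comap m.π => g s) ?_
      intro s s' hss
      apply Subtype.ext
      apply Subtype.ext
      rw [← hg s s.2, ← hg s' s'.2]
      exact congrArg (fun a => kp e P (a, 1)) hss
    have h5 : Nat.card (specialLinear (Fin n₂) F) ≤ Nat.card (Y.comap m.π) := by
      refine Nat.card_le_card_of_injective (fun b => (⟨ψ b, ⟨b, rfl⟩⟩ : Y.comap m.π)) ?_
      intro b b' hbb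
      apply Subtype.ext
      apply kp_one_inj (by omega) e P
      have h6 : ψ b = ψ b' := Subtype.ext_iff.1 hbb
      exact congrArg (fun s : specialLinear ι F => (s : GL ι F)) h6
    have h6 := card_GL_lt_SL (F := F) (n₁ := n₁) (n₂ := n₂) (by omega) h12
    have h7 := (h2.symm.le.trans h4).trans_lt (h6.trans_le (h5.trans h3.le))
    exact lt_of_mul_lt_mul_right h7 (Nat.zero_le _)
  -- the centralizer of `Y` is not trivial
  have hbot := cent_eq_bot h hYA hYn hYs hlt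
  have hij : (⟨0, by omega⟩ : Fin n₁) ≠ ⟨1, by omega⟩ := by
    intro h0
    simp at h0
  set t : GL (Fin n₁) F := H905.tv hij (1 : F) with ht
  have htS : t ∈ specialLinear (Fin n₁) F := H905.tv_mem hij 1
  have hone2 : (1 : GL (Fin n₂) F) ∈ specialLinear (Fin n₂) F := one_mem _
  have hkS : kp e P (t, 1) ∈ specialLinear ι F := kp_mem_sl e P htS hone2
  have h1 : m.π ⟨kp e P (t, 1), hkS⟩ ∈ A ⊓ centralizer (Y : Set Q) := by
    refine ⟨(m.mem_hat_iff ⟨_, hkS⟩).1 ((hmem _).2 ⟨⟨t, 1, rfl⟩, hkS⟩), mem_centralizer_iff.2 ?_⟩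
    rintro _ ⟨b, rfl⟩
    rw [hφ, ← map_mul, ← map_mul]
    congr 1
    apply Subtype.ext
    change kp e P (1, b) * kp e P (t, 1) = kp e P (t, 1) * kp e P (1, b)
    rw [← map_mul, ← map_mul]
    congr 1
    simp
  rw [hbot, mem_bot, m.ker] at h1
  have h2 : kron n₁ n₂ F (t, 1) ∈ scalars (Fin n₁ × Fin n₂) F := (kp_scalar_iff e P t 1).1 h1
  obtain ⟨c, hc⟩ := (mem_scalars_iff _).1 (scalar_of_kron (by omega) (by omega) h2).1
  rw [ht, H905.tv_val] at hc
  have h3 := congrFun (congrFun hc ⟨0, by omega⟩) ⟨1, by omega⟩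
  rw [Matrix.add_apply, Matrix.single_apply_same, Matrix.one_apply_ne hij, Matrix.smul_apply, Matrix.one_apply_ne hij,
    smul_zero, zero_add] at h3
  exact one_ne_zero h3

/-- **(SL-C4)** -/
theorem sl_c4 (_hs : IsSimpleGroup Q) (h : EPT A Γ) {n : ℕ} (m : Model Q (specialLinear (Fin n) F)) {n₁ n₂ : ℕ}
    (e : Fin n ≃ Fin n₁ × Fin n₂) (P : GL (Fin n) F) (h₁ : 2 ≤ n₁) (h12 : n₁ < n₂)
    (hA : m.hat A ≤ tensorProductSubgroup n₁ n₂ e P) : False := sl_c4' h m e P h₁ h12 hA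

end Cfsg.Agent.H793.EP
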