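import Cfsg.Agent.H419.EP.Iface
import Cfsg.Agent.Lib.Cores

/-!
# S3499: consequences of `EPT` used for the geometric classes (helper793)

* `char_inv` : characteristic subgroups of `A` are `Γ`-invariant;
* `pgroup_free` : an element `≠ 1` of a normal `p`-subgroup of `A` lies in no other conjugate of `A`;
* `card_eq_of_comm` : (T2) commuting `Γ`-invariant subgroups `≠ 1` of `A` have the same order;
* `cent_eq_bot` : a simple normal subgroup `Y` of `A` with `|C_A(Y)| < |Y|` has `C_A(Y) = 1`.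
-/

set_option autoImplicit false

namespace Cfsg.Agent.H793.EP

open Subgroup Cfsg Cfsg.Agent.H284

variable {Q : Type*} [Group Q] [Finite Q] {A : Subgroup Q} {Γ : Subgroup (MulAut Q)} (h : EPT A Γ)

include h

/-- characteristic subgroups of `A` are `Γ`-invariant -/
theorem char_inv (K : Subgroup A) [hK : K.Characteristic] :
    ∀ σ ∈ Γ, ∀ k ∈ K.map A.subtype, σ k ∈ K.map A.subtype := by
  intro σ hσ
  have hs : ∀ y : A, σ y ∈ A := fun y => (h.inv σ hσ y).2 y.2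
  let f : A →* A := (σ.toMonoidHom.comp A.subtype).codRestrict _ hs
  have hf : Function.Injective f := by
    intro y z e
    have e' : σ y = σ z := Subtype.ext_iff.1 e
    exact Subtype.ext (σ.injective e')
  let τ : MulAut A := MulEquiv.ofBijective f (Finite.injective_iff_bijective.1 hf)
  have hτ : K.map τ.toMonoidHom = K := Subgroup.characteristic_iff_map_eq.1 hK τ
  rintro _ ⟨k, hk, rfl⟩
  have h1 : τ k ∈ K := by
    rw [← hτ]
    exact ⟨k, hk, rfl⟩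
  exact ⟨τ k, h1, rfl⟩

/-- **(T1)** for normal `p`-subgroups of `A` -/
theorem pgroup_free {p : ℕ} [Fact p.Prime] {K : Subgroup Q} (hK : K ≤ A) (hKn : ∀ a ∈ A, ∀ k ∈ K, a * k * a⁻¹ ∈ K)
    (hp : IsPGroup p K) {x : Q} (hx : x ∉ A) {k : Q} (hk : k ∈ K) (hkx : k ∈ cj x A) : k = 1 := by
  by_contra hk1
  have hn : (K.subgroupOf A).Normal := ⟨by
    rintro ⟨n, hn'⟩ hn ⟨a, ha⟩
    exact hKn a ha n hn⟩
  have hp' : IsPGroup p (K.subgroupOf A) := by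
    intro g
    obtain ⟨j, hj⟩ := hp ⟨g, g.2⟩
    refine ⟨j, Subtype.ext (Subtype.ext ?_)⟩
    exact congrArg (fun z : K => (z : Q)) hj
  have hle : K.subgroupOf A ≤ pCore p A := Lib.Cores.le_pCore hn hp'
  have hch : (pCore p A).Characteristic := Lib.Cores.pCore_characteristic p
  have hO : (pCore p A).map A.subtype ≤ A := by
    rintro _ ⟨y, -, rfl⟩
    exact y.2
  have hkO : k ∈ (pCore p A).map A.subtype := ⟨⟨k, hK hk⟩, hle hk, rfl⟩
  have hnil : Group.IsNilpotent ((pCore p A).map A.subtype) :=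
    ((Lib.Cores.pCore_isPGroup (G := A) p).map A.subtype).isNilpotent
  have hne : (pCore p A).map A.subtype ≠ ⊥ := by
    intro e
    rw [e, mem_bot] at hkO
    exact hk1 hkO
  obtain ⟨-, -, -, h1, -⟩ := h.nilp _ hO (char_inv h (pCore p A)) hnil hne
  have h2 : k ∈ (pCore p A).map A.subtype ⊓ cj x A := ⟨hkO, hkx⟩
  rw [(h1 x hx).1, mem_bot] at h2
  exact hk1 h2

omit [Finite Q] in
/-- **(T2)**, first part -/
theorem inf_of_comm {X Y : Subgroup Q} (hX : X ≤ A) (hY : Y ≤ A) (hXi : ∀ σ ∈ Γ, ∀ k ∈ X, σ k ∈ X)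
    (hYi : ∀ σ ∈ Γ, ∀ k ∈ Y, σ k ∈ Y) (hc : ∀ a ∈ X, ∀ b ∈ Y, a * b = b * a) (hYne : Y ≠ ⊥) {x : Q} (hx : x ∉ A) :
    X ⊓ cj x A = ⊥ := by
  apply h.F1 x hx _ (inf_le_left.trans hX) ?_ inf_le_right
  intro σ hσ k hk
  obtain ⟨y, hy, τ, hτ, hτx, rfl⟩ := h.fac hY hYi hYne hx hσ
  have h1 : τ k ∈ X := hXi τ hτ k (mem_inf.1 hk).1
  have h2 : τ k ∈ A ⊓ cj x A := h.stab_M0 hτ hτx ⟨hX (mem_inf.1 hk).1, (mem_inf.1 hk).2⟩
  have h3 : (MulAut.conj y * τ) k = τ k := by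
    rw [MulAut.mul_apply, MulAut.conj_apply, ← hc _ h1 _ hy, mul_inv_cancel_right]
  rw [h3]
  exact ⟨h1, (mem_inf.1 h2).2⟩

omit [Finite Q] in
/-- `|X| |A ∩ Aˣ| = |A|` -/
theorem card_mul_of_inf {X : Subgroup Q} (hX : X ≤ A) (hXi : ∀ σ ∈ Γ, ∀ k ∈ X, σ k ∈ X) (hne : X ≠ ⊥) {x : Q}
    (hx : x ∉ A) (hinf : X ⊓ cj x A = ⊥) : Nat.card X * Nat.card (A ⊓ cj x A : Subgroup Q) = Nat.card A := by
  rw [← Nat.card_prod]
  apply Nat.card_congr
  refine Equiv.ofBijective (fun p => (⟨p.1.1 * p.2.1, mul_mem (hX p.1.2) (mem_inf.1 p.2.2).1⟩ : A)) ⟨?_, ?_⟩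
  · rintro ⟨a, b⟩ ⟨c, d⟩ he
    have e1 : (a : Q) * b = c * d := Subtype.ext_iff.1 he
    have e2 : (c : Q)⁻¹ * a = d * (b : Q)⁻¹ := by
      rw [inv_mul_eq_iff_eq_mul, ← mul_assoc, ← e1, mul_assoc, mul_inv_cancel, mul_one]
    have h1 : (c : Q)⁻¹ * a ∈ X ⊓ cj x A := by
      refine ⟨X.mul_mem (X.inv_mem c.2) a.2, ?_⟩
      rw [e2]
      exact (cj x A).mul_mem (mem_inf.1 d.2).2 ((cj x A).inv_mem (mem_inf.1 b.2).2)
    rw [hinf, mem_bot] at h1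
    rw [h1] at e2
    rw [inv_mul_eq_one] at h1
    have h2 : (d : Q) = b := by
      rw [eq_comm, mul_inv_eq_one] at e2
      exact e2
    exact Prod.ext (Subtype.ext h1.symm) (Subtype.ext h2.symm)
  · rintro ⟨g, hg⟩
    obtain ⟨k, hk, m, hm, e1⟩ := h.fac_A hX hXi hne hx hg
    exact ⟨(⟨k, hk⟩, ⟨m, hm⟩), Subtype.ext e1.symm⟩

/-- **(T2)** commuting `Γ`-invariant subgroups `≠ 1` of `A` have the same order -/
theorem card_eq_of_comm {X Y : Subgroup Q} (hX : X ≤ A) (hY : Y ≤ A) (hXi : ∀ σ ∈ Γ, ∀ k ∈ X, σ k ∈ X)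
    (hYi : ∀ σ ∈ Γ, ∀ k ∈ Y, σ k ∈ Y) (hc : ∀ a ∈ X, ∀ b ∈ Y, a * b = b * a) (hXne : X ≠ ⊥) (hYne : Y ≠ ⊥) :
    Nat.card X = Nat.card Y := by
  obtain ⟨x, hx⟩ := h.exists_notMem
  have h1 := card_mul_of_inf h hX hXi hXne hx (inf_of_comm h hX hY hXi hYi hc hYne hx)
  have h2 := card_mul_of_inf h hY hYi hYne hx
    (inf_of_comm h hY hX hYi hXi (fun a ha b hb => (hc b hb a ha).symm) hXne hx)
  have h3 : 0 < Nat.card (A ⊓ cj x A : Subgroup Q) := Nat.card_pos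
  exact Nat.eq_of_mul_eq_mul_right h3 (h1.trans h2.symm)

omit [Finite Q] in
/-- the centralizer of an invariant subgroup is invariant -/
theorem cent_inv {Y : Subgroup Q} (hYi : ∀ σ ∈ Γ, ∀ k ∈ Y, σ k ∈ Y) :
    ∀ σ ∈ Γ, ∀ k ∈ A ⊓ centralizer (Y : Set Q), σ k ∈ A ⊓ centralizer (Y : Set Q) := by
  rintro σ hσ k ⟨hk, hk'⟩
  refine ⟨(h.inv σ hσ k).2 hk, mem_centralizer_iff.2 ?_⟩
  intro y hy
  have h1 := mem_centralizer_iff.1 hk' _ (hYi _ (inv_mem hσ) y hy)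
  have h2 := congrArg σ h1
  rw [map_mul, map_mul, MulAut.apply_inv_self] at h2
  exact h2

omit h in
/-- a simple normal subgroup `Y` of `A` with `|C_A(Y)| < |Y|` is invariant -/
theorem inv_of_small {Y : Subgroup Q} (hY : Y ≤ A) (hYn : ∀ a ∈ A, ∀ y ∈ Y, a * y * a⁻¹ ∈ Y)
    (hs : IsSimpleGroup Y) (hlt : Nat.card (A ⊓ centralizer (Y : Set Q) : Subgroup Q) < Nat.card Y) {σ : MulAut Q}
    (hσ : ∀ a, σ a ∈ A ↔ a ∈ A) : ∀ k ∈ Y, σ k ∈ Y := by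
  have hcard : Nat.card (Y.map σ.toMonoidHom) = Nat.card Y := Subgroup.card_map_of_injective σ.injective
  have hn : ((Y.map σ.toMonoidHom ⊓ Y).subgroupOf Y).Normal := ⟨by
    rintro ⟨n, hn'⟩ hn ⟨a, ha⟩
    obtain ⟨⟨m, hm, hmn⟩, -⟩ := hn
    refine ⟨?_, Y.mul_mem (Y.mul_mem ha hn') (Y.inv_mem ha)⟩
    have h1 : σ (σ.symm a) = a := σ.apply_symm_apply a
    have h2 : σ.symm a ∈ A := (hσ _).1 (by rw [h1]; exact hY ha)
    refine ⟨σ.symm a * m * (σ.symm a)⁻¹, hYn _ h2 m hm, ?_⟩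
    have h3 : σ m = n := hmn
    change σ (σ.symm a * m * (σ.symm a)⁻¹) = a * n * a⁻¹
    rw [map_mul, map_mul, map_inv, h1, h3]⟩
  rcases hn.eq_bot_or_eq_top with h4 | h4
  · exfalso
    have hle : Y.map σ.toMonoidHom ≤ A ⊓ centralizer (Y : Set Q) := by
      rintro _ ⟨m, hm, rfl⟩
      have hmA : σ m ∈ A := (hσ m).2 (hY hm)
      refine ⟨hmA, mem_centralizer_iff.2 ?_⟩
      intro y hy
      have h5 : y * σ m * y⁻¹ * (σ m)⁻¹ ∈ Y.map σ.toMonoidHom ⊓ Y := by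
        refine ⟨?_, ?_⟩
        · have h1 : σ (σ.symm y) = y := σ.apply_symm_apply y
          have h2 : σ.symm y ∈ A := (hσ _).1 (by rw [h1]; exact hY hy)
          refine ⟨σ.symm y * m * (σ.symm y)⁻¹ * m⁻¹, Y.mul_mem (hYn _ h2 m hm) (Y.inv_mem hm), ?_⟩
          change σ (σ.symm y * m * (σ.symm y)⁻¹ * m⁻¹) = _
          rw [map_mul, map_mul, map_mul, map_inv, map_inv, h1]
        · have : y * σ m * y⁻¹ * (σ m)⁻¹ = y * (σ m * y⁻¹ * (σ m)⁻¹) := by group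
          rw [this]
          exact Y.mul_mem hy (hYn _ hmA _ (Y.inv_mem hy))
      have h6 : (⟨y * σ m * y⁻¹ * (σ m)⁻¹, h5.2⟩ : Y) ∈ (Y.map σ.toMonoidHom ⊓ Y).subgroupOf Y := h5
      rw [h4, mem_bot] at h6
      have h7 : y * σ m * y⁻¹ * (σ m)⁻¹ = 1 := congrArg Subtype.val h6
      rw [mul_inv_eq_one, mul_inv_eq_iff_eq_mul] at h7
      exact h7
    have := Subgroup.card_le_of_le hle
    omega
  · have h5 : Y ≤ Y.map σ.toMonoidHom := by
      intro y hy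
      have h6 : (⟨y, hy⟩ : Y) ∈ (Y.map σ.toMonoidHom ⊓ Y).subgroupOf Y := by rw [h4]; exact mem_top _
      exact (mem_inf.1 h6).1
    have h6 : Y = Y.map σ.toMonoidHom := Subgroup.eq_of_le_of_card_ge h5 hcard.le
    intro k hk
    rw [h6]
    exact ⟨k, hk, rfl⟩

/-- a simple normal subgroup `Y` of `A` with `|C_A(Y)| < |Y|` has trivial centralizer in `A` -/
theorem cent_eq_bot {Y : Subgroup Q} (hY : Y ≤ A) (hYn : ∀ a ∈ A, ∀ y ∈ Y, a * y * a⁻¹ ∈ Y)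
    (hs : IsSimpleGroup Y) (hlt : Nat.card (A ⊓ centralizer (Y : Set Q) : Subgroup Q) < Nat.card Y) :
    A ⊓ centralizer (Y : Set Q) = ⊥ := by
  by_contra hne
  have hYi : ∀ σ ∈ Γ, ∀ k ∈ Y, σ k ∈ Y := fun σ hσ => inv_of_small hY hYn hs hlt (h.inv σ hσ)
  have hYne : Y ≠ ⊥ := by
    have := hs.toNontrivial
    exact (Subgroup.nontrivial_iff_ne_bot Y).1 this
  have h1 := card_eq_of_comm h inf_le_left hY (cent_inv h hYi) hYi (by
    rintro a ⟨-, ha⟩ b hb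
    exact (mem_centralizer_iff.1 ha b hb).symm) hne hYne
  omega

end Cfsg.Agent.H793.EP
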